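import Groth.Agent.FlatLib.QStalk
import Groth.Agent.RichLib.FlatColimit

/-!
# Flatness over the base on affine opens
-/

set_option autoImplicit false
set_option linter.style.haveILetI false
set_option backward.isDefEq.respectTransparency false
set_option backward.isDefEq.respectTransparency.types false

universe u

open CategoryTheory AlgebraicGeometry Opposite TopologicalSpace

namespace FlatAffLib

theorem isFlatOver_iff {X S : Scheme.{u}} (f : X ⟶ S) (F : X.Modules) [Coh.IsQCoh F] :
    FlatMod.IsFlatOver f F ↔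
      ∀ (U : X.Opens) (V : S.Opens) (hUV : U ≤ f ⁻¹ᵁ V), IsAffineOpen U → IsAffineOpen V →
        @Module.Flat Γ(S, V) (F.val.obj (op U)) _ _ (Module.compHom (F.val.obj (op U)) (f.appLE V U hUV).hom) := by
  constructor
  · intro hfl U V h hU hV
    letI : Algebra Γ(S, V) Γ(X, U) := (f.appLE V U h).hom.toAlgebra
    letI : Module Γ(S, V) Γ(F, U) := Module.compHom _ (f.appLE V U h).hom
    haveI : IsScalarTower Γ(S, V) Γ(X, U) Γ(F, U) := IsScalarTower.of_algebraMap_smul fun _ _ => rfl
    refine (RichLib.FlatColimit.flat_iff_flatLocus_eq_univ (S := Γ(X, U)) (M := Γ(F, U))).2 fun q => ?_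
    let P : (U : Scheme.{u}) := hU.isoSpec.inv.base q
    have hq : hU.primeIdealOf ⟨P.1, P.2⟩ = q := by
      change hU.isoSpec.hom.base P = q
      exact congrArg (fun g => g.base q) hU.isoSpec.inv_hom_id
    rw [← hq]
    exact (FlatLib.isFlatOverAt_iff f F V hV U hU h P.2 rfl).1 (hfl P.1)
  · intro H x
    obtain ⟨V, hV, hxV, -⟩ := exists_isAffineOpen_mem_and_subset (x := f x) (U := ⊤) trivial
    obtain ⟨U, hU, hxU, h⟩ := exists_isAffineOpen_mem_and_subset (x := x) (U := f ⁻¹ᵁ V) hxV
    letI : Algebra Γ(S, V) Γ(X, U) := (f.appLE V U h).hom.toAlgebra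
    letI : Module Γ(S, V) Γ(F, U) := Module.compHom _ (f.appLE V U h).hom
    haveI : IsScalarTower Γ(S, V) Γ(X, U) Γ(F, U) := IsScalarTower.of_algebraMap_smul fun _ _ => rfl
    have := H U V h hU hV
    exact (FlatLib.isFlatOverAt_iff f F V hV U hU h hxU rfl).2
      ((RichLib.FlatColimit.flat_iff_flatLocus_eq_univ (S := Γ(X, U)) (M := Γ(F, U))).1 this _)

end FlatAffLib
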